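import Cfsg.Agent.Lib.Invol.PTerminal.Bar
import Cfsg.Agent.Lib.Coprime.LBalance.Components
import Cfsg.Prelude.Def_EvenTechniques

/-!
# `p`-components under homomorphisms, and the two halves of the `p`-layer

`ep p X` is generated by the quasisimple `p`-components, `bb p X` by the others.
-/

set_option autoImplicit false
set_option linter.style.haveILetI false
set_option linter.unusedSectionVars false

namespace CfsgLib.Invol.BLayer

open Subgroup CfsgLib.Coprime CfsgLib.Invol.PTerminal
open scoped commutatorElement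

variable {G : Type*} [Group G] [Finite G] {p : ℕ} [hp : Fact p.Prime]

/-! ### Quasisimple groups -/

theorem isQuasisimple_of_surjective {X Y : Type*} [Group X] [Group Y] [Finite X] [Nontrivial Y]
    (hX : Cfsg.IsQuasisimple X) {f : X →* Y} (hf : Function.Surjective f) : Cfsg.IsQuasisimple Y := by
  haveI := hX.1
  haveI : Group.IsPerfect Y := ⟨by
    rw [commutator_def, ← map_top_of_surjective f hf, ← map_commutator, ← commutator_def,
      Group.IsPerfect.commutator_eq_top]⟩
  haveI : Finite Y := Finite.of_surjective f hf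
  refine isQuasisimple_of_normal_le_center fun N hN => ?_
  rcases subnormal_eq_top_or_le_center hX ((Normal.isSubnormal hN).comap f) with h | h
  · exact Or.inl (by rw [← map_comap_eq_self_of_surjective hf N, h, map_top_of_surjective f hf])
  · refine Or.inr fun y hy => mem_center_iff.2 fun z => ?_
    obtain ⟨a, rfl⟩ := hf y
    obtain ⟨b, rfl⟩ := hf z
    rw [← map_mul, ← map_mul, mem_center_iff.1 (h (mem_comap.2 hy)) b]

theorem isQuasisimple_of_central_ker {X Y : Type*} [Group X] [Group Y] [Finite X]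
    (hperf : ⁅(⊤ : Subgroup X), (⊤ : Subgroup X)⁆ = (⊤ : Subgroup X)) (hY : Cfsg.IsQuasisimple Y) {f : X →* Y}
    (hf : Function.Surjective f) (hk : f.ker ≤ center X) : Cfsg.IsQuasisimple X := by
  haveI : Finite Y := Finite.of_surjective f hf
  haveI := nontrivial_of_isQuasisimple hY
  haveI : Nontrivial X := hf.nontrivial
  haveI : Group.IsPerfect X := ⟨by rw [commutator_def]; exact hperf⟩
  refine isQuasisimple_of_normal_le_center fun N hN => ?_
  haveI := hN
  rcases subnormal_eq_top_or_le_center hY (Normal.isSubnormal (Normal.map hN f hf)) with h | h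
  · refine Or.inl (top_unique (hperf ▸ commutator_le.2 fun a _ b _ => ?_))
    have e : ∀ a : X, ∃ n ∈ N, ∃ z ∈ center X, a = n * z := fun a => by
      obtain ⟨n, hn, e⟩ := (h ▸ mem_top (f a) : f a ∈ N.map f)
      exact ⟨n, hn, n⁻¹ * a, hk (MonoidHom.mem_ker.2 (by rw [map_mul, map_inv, e, inv_mul_cancel])),
        (mul_inv_cancel_left n a).symm⟩
    obtain ⟨n, hn, z, hz, rfl⟩ := e a
    obtain ⟨n', hn', z', hz', rfl⟩ := e b
    have cz : ∀ t : X, t * z = z * t := mem_center_iff.1 hz
    have cz' : ∀ t : X, t * z' = z' * t := mem_center_iff.1 hz'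
    have e1 : ⁅n * z, n' * z'⁆ = ⁅n, n'⁆ := by
      simp only [commutatorElement_def, mul_inv_rev]
      calc n * z * (n' * z') * (z⁻¹ * n⁻¹) * (z'⁻¹ * n'⁻¹)
          = n * (z * (n' * z')) * z⁻¹ * n⁻¹ * z'⁻¹ * n'⁻¹ := by group
        _ = n * ((n' * z') * z) * z⁻¹ * n⁻¹ * z'⁻¹ * n'⁻¹ := by rw [cz]
        _ = n * n' * (z' * n⁻¹) * z'⁻¹ * n'⁻¹ := by group
        _ = n * n' * (n⁻¹ * z') * z'⁻¹ * n'⁻¹ := by rw [cz']
        _ = n * n' * n⁻¹ * n'⁻¹ := by group
    rw [e1, commutatorElement_def]
    exact mul_mem (mul_mem (mul_mem hn hn') (inv_mem hn)) (inv_mem hn')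
  · refine Or.inr ?_
    have h0 : ⁅N, (⊤ : Subgroup X)⁆ = ⊥ := by
      refine commutator_eq_bot_of_perfect hperf (commutator_eq_bot_iff_le_centralizer.2 ?_)
      refine le_trans (le_trans ?_ hk) (center_le_centralizer _)
      rw [commutator_le]
      intro n hn t _
      rw [MonoidHom.mem_ker, map_commutatorElement, commutatorElement_eq_one_iff_mul_comm]
      exact (mem_center_iff.1 (h (mem_map_of_mem f hn)) (f t)).symm
    rw [commutator_eq_bot_iff_le_centralizer] at h0
    exact h0.trans (by rw [coe_top, centralizer_univ])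

theorem eq_bot_of_pClosure_eq {M : Subgroup G} (hM : pClosure p M = M)
    (hd : ¬ p ∣ Nat.card M) : M = ⊥ := by
  rw [← hM, pClosure, eq_bot_iff, closure_le]
  rintro x ⟨hx, k, hk⟩
  obtain ⟨i, -, hi⟩ := (Nat.dvd_prime_pow hp.out).1 (orderOf_dvd_of_pow_eq_one hk)
  rcases i.eq_zero_or_pos with h | h
  · exact mem_bot.2 (orderOf_eq_one_iff.1 (by rw [hi, h, pow_zero]))
  · refine absurd ((dvd_pow_self p h.ne').trans (hi ▸ ?_)) hd
    rw [← Subgroup.orderOf_mk x hx]
    exact orderOf_dvd_natCard _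

/-! ### Images of `p`-components -/

theorem isPComponent_map_of_surjective {G' : Type*} [Group G'] {f : G →* G'}
    (hf : Function.Surjective f) {K : Subgroup G} (hK : Cfsg.IsPComponent p K) (hne : K.map f ≠ ⊥) :
    Cfsg.IsPComponent p (K.map f) := by
  haveI : Finite G' := Finite.of_surjective f hf
  set M := K.map f with hMdef
  set π := QuotientGroup.mk' (Cfsg.pPrimeCore p G)
  set π' := QuotientGroup.mk' (Cfsg.pPrimeCore p G')
  have hM : pClosure p M = M := by rw [hMdef, ← map_pClosure, pClosure_pComponent hK]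
  have hMs : M.IsSubnormal := hK.1.map hf
  let g : G ⧸ Cfsg.pPrimeCore p G →* G' ⧸ Cfsg.pPrimeCore p G' :=
    QuotientGroup.map _ _ f (map_le_iff_le_comap.1 (map_pPrimeCore_le hf p))
  have hg : (K.map π).map g = M.map π' := by
    rw [Subgroup.map_map, hMdef, Subgroup.map_map]; rfl
  have hMne : M.map π' ≠ ⊥ := fun e => hne (eq_bot_of_pClosure_eq hM fun hd =>
    pPrimeCore_not_dvd (G := G') hp.out (hd.trans (card_dvd_of_le (by
      rwa [Subgroup.map_eq_bot_iff, QuotientGroup.ker_mk'] at e))))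
  haveI : Nontrivial ((K.map π).map g) := (nontrivial_iff_ne_bot _).2 (hg ▸ hMne)
  have hc : Cfsg.IsComponent (M.map π') := ⟨hMs.map (QuotientGroup.mk'_surjective _),
    hg ▸ isQuasisimple_of_surjective hK.2.1.2 (g.subgroupMap_surjective (K.map π))⟩
  have he : M = pComponentOver p (M.map π') := le_antisymm
    (hM.ge.trans (pClosure_mono (le_comap_map π' M))) (pComponentOver_le_of_map_eq hMs rfl)
  rw [he]
  exact isPComponent_pComponentOver hc

theorem ne_bot_of_pOf {K H : Subgroup G} (hK : Cfsg.IsPComponentOf p K H) : K ≠ ⊥ := fun e =>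
  pComponent_not_le_pPrimeCore hK.2 (by rw [e, bot_subgroupOf]; exact bot_le)

theorem perfect_of_pOf {K H : Subgroup G} (hK : Cfsg.IsPComponentOf p K H) : ⁅K, K⁆ = K := by
  have := congrArg (Subgroup.map H.subtype) (commutator_self_pComponent hK.2)
  rwa [map_commutator, map_subgroupOf_eq_of_le hK.1] at this

theorem pOf_map {G' : Type*} [Group G'] (f : G →* G') {K H : Subgroup G}
    (hK : Cfsg.IsPComponentOf p K H) (hne : K.map f ≠ ⊥) :
    Cfsg.IsPComponentOf p (K.map f) (H.map f) := by
  have e : (K.map f).subgroupOf (H.map f) = (K.subgroupOf H).map (f.subgroupMap H) := by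
    refine map_injective (H.map f).subtype_injective ?_
    rw [map_subgroupOf_eq_of_le (map_mono hK.1), Subgroup.map_map,
      show (H.map f).subtype.comp (f.subgroupMap H) = f.comp H.subtype from MonoidHom.ext fun _ => rfl,
      ← Subgroup.map_map, map_subgroupOf_eq_of_le hK.1]
  refine ⟨map_mono hK.1, ?_⟩
  rw [e]
  refine isPComponent_map_of_surjective (f.subgroupMap_surjective H) hK.2 fun h => hne ?_
  rw [← map_subgroupOf_eq_of_le (map_mono (f := f) hK.1), e, h, Subgroup.map_bot]

theorem isPComponent_map_equiv {X X' : Type*} [Group X] [Finite X] [Group X'] (e : X ≃* X')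
    {K : Subgroup X} (hK : Cfsg.IsPComponent p K) : Cfsg.IsPComponent p (K.map e.toMonoidHom) :=
  isPComponent_map_of_ker e.surjective
    (by rw [(MonoidHom.ker_eq_bot_iff e.toMonoidHom).2 e.injective, card_bot]; exact hp.out.not_dvd_one) hK

theorem pOf_of_subnormal {A B K : Subgroup G} (hAB : A ≤ B) (hA : (A.subgroupOf B).IsSubnormal)
    (hK : Cfsg.IsPComponentOf p K A) : Cfsg.IsPComponentOf p K B := by
  refine ⟨hK.1.trans hAB, ?_⟩
  have h := (isPComponent_map_subtype_iff hA _).2
    (isPComponent_map_equiv (subgroupOfEquivOfLe hAB).symm hK.2)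
  convert h using 1
  refine map_injective B.subtype_injective ?_
  rw [map_subgroupOf_eq_of_le (hK.1.trans hAB), Subgroup.map_map, Subgroup.map_map]
  exact (map_subgroupOf_eq_of_le hK.1).symm

theorem pOf_restrict {A B K : Subgroup G} (hAB : A ≤ B) (hA : (A.subgroupOf B).IsSubnormal)
    (hKA : K ≤ A) (hK : Cfsg.IsPComponentOf p K B) : Cfsg.IsPComponentOf p K A := by
  refine ⟨hKA, ?_⟩
  have e : ((K.subgroupOf A).map (subgroupOfEquivOfLe hAB).symm.toMonoidHom).map
      (A.subgroupOf B).subtype = K.subgroupOf B := by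
    refine map_injective B.subtype_injective ?_
    rw [map_subgroupOf_eq_of_le hK.1, Subgroup.map_map, Subgroup.map_map]
    exact map_subgroupOf_eq_of_le hKA
  have h2 := isPComponent_map_equiv (subgroupOfEquivOfLe hAB)
    ((isPComponent_map_subtype_iff hA _).1 (e.symm ▸ hK.2))
  rwa [Subgroup.map_map, show (subgroupOfEquivOfLe hAB).toMonoidHom.comp
      (subgroupOfEquivOfLe hAB).symm.toMonoidHom = MonoidHom.id _ from
    MonoidHom.ext fun a => (subgroupOfEquivOfLe hAB).apply_symm_apply a, Subgroup.map_id] at h2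

theorem pOf_subgroupOf {M K H : Subgroup G} (hHM : H ≤ M) (hK : Cfsg.IsPComponentOf p K H) :
    Cfsg.IsPComponentOf p (K.subgroupOf M) (H.subgroupOf M) := by
  refine ⟨comap_mono hK.1, ?_⟩
  have h := isPComponent_map_equiv (subgroupOfEquivOfLe hHM).symm hK.2
  convert h using 1
  ext ⟨⟨g, hgM⟩, hgH⟩
  constructor
  · intro hg; exact ⟨⟨g, hgH⟩, hg, rfl⟩
  · rintro ⟨g', hg', e⟩
    have : (g' : G) = g := congrArg (fun t : ↥(H.subgroupOf M) => ((t : M) : G)) e
    exact this ▸ hg'

/-- A `p`-component is inside, or commutes modulo the core with, a normal subgroup. -/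
theorem le_or_commute {K U : Subgroup G} [U.Normal] (hK : Cfsg.IsPComponent p K) :
    K ≤ U ∨ ⁅K.map (QuotientGroup.mk' (Cfsg.pPrimeCore p G)),
      U.map (QuotientGroup.mk' (Cfsg.pPrimeCore p G))⁆ = ⊥ := by
  have hU : U.IsSubnormal := Normal.isSubnormal inferInstance
  rcases component_le_or_commutator_eq_bot hK.2.1 (hU.map (QuotientGroup.mk'_surjective _)) with h | h
  · left
    rw [eq_pComponentOver hK]
    refine le_trans (pClosure_mono (comap_mono h)) ?_
    refine pClosure_le_of_isSubnormal hU fun hd => pPrimeCore_not_dvd (G := G) hp.out (hd.trans ?_)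
    rw [comap_map_eq, QuotientGroup.ker_mk']
    exact relIndex_sup_dvd_card _ _
  · exact Or.inr h

/-! ### Quasisimple and other `p`-components -/

/-- The subgroup generated by the quasisimple `p`-components. -/
def ep (p : ℕ) (X : Type*) [Group X] : Subgroup X :=
  ⨆ K : {K : Subgroup X // Cfsg.IsPComponent p K ∧ Cfsg.IsQuasisimple ↥K}, (K : Subgroup X)

/-- The subgroup generated by the other `p`-components. -/
abbrev bb (p : ℕ) (X : Type*) [Group X] : Subgroup X := Cfsg.nonQuasisimplePLayer p X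

theorem le_ep {K : Subgroup G} (hK : Cfsg.IsPComponent p K) (hq : Cfsg.IsQuasisimple ↥K) :
    K ≤ ep p G :=
  le_iSup (fun K : {K : Subgroup G // Cfsg.IsPComponent p K ∧ Cfsg.IsQuasisimple ↥K} => (K : Subgroup G))
    ⟨K, hK, hq⟩

theorem le_bb {K : Subgroup G} (hK : Cfsg.IsPComponent p K) (hq : ¬ Cfsg.IsQuasisimple ↥K) :
    K ≤ bb p G :=
  le_iSup (fun K : {K : Subgroup G // Cfsg.IsPComponent p K ∧ ¬ Cfsg.IsQuasisimple ↥K} => (K : Subgroup G))
    ⟨K, hK, hq⟩

theorem qs_conj_iff {K : Subgroup G} (g : G) :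
    Cfsg.IsQuasisimple ↥(K.map (MulAut.conj g).toMonoidHom) ↔ Cfsg.IsQuasisimple ↥K :=
  ⟨isQuasisimple_congr (K.equivMapOfInjective _ (MulAut.conj g).injective).symm,
    isQuasisimple_congr (K.equivMapOfInjective _ (MulAut.conj g).injective)⟩

theorem ep_normal : (ep p G).Normal := by
  refine ⟨fun x hx g => ?_⟩
  have h : ep p G ≤ (ep p G).comap (MulAut.conj g).toMonoidHom := iSup_le fun K =>
    map_le_iff_le_comap.1 (le_ep (isPComponent_conj K.2.1 g) ((qs_conj_iff g).2 K.2.2))
  exact h hx

theorem bb_normal : (bb p G).Normal := by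
  refine ⟨fun x hx g => ?_⟩
  have h : bb p G ≤ (bb p G).comap (MulAut.conj g).toMonoidHom := iSup_le fun K =>
    map_le_iff_le_comap.1 (le_bb (isPComponent_conj K.2.1 g) (mt (qs_conj_iff g).1 K.2.2))
  exact h hx

theorem pLayer_le_ep_sup_bb : Cfsg.pLayer p G ≤ ep p G ⊔ bb p G := by
  refine sSup_le fun K hK => ?_
  by_cases hq : Cfsg.IsQuasisimple ↥K
  · exact (le_ep hK hq).trans le_sup_left
  · exact (le_bb hK hq).trans le_sup_right

theorem ep_le_layer : ep p G ≤ Cfsg.layer G :=
  iSup_le fun K => component_le_layer ⟨K.2.1.1, K.2.2⟩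

theorem bb_le_centralizer_ep : bb p G ≤ centralizer (ep p G : Set G) := by
  refine iSup_le fun J => le_centralizer_iff.1 (iSup_le fun L => ?_)
  refine commutator_eq_bot_iff_le_centralizer.1
    ((component_le_or_commutator_eq_bot ⟨L.2.1.1, L.2.2⟩ J.2.1.1).resolve_left fun hle => J.2.2 ?_)
  have e := component_eq_of_le L.2.1.2.1 J.2.1.2.1 (map_mono hle)
  rw [← IsPComponent_unique L.2.1 J.2.1 e]
  exact L.2.2

theorem eq_bot_of_le_ep_of_le_bb {K : Subgroup G} (hK : ⁅K, K⁆ = K) (h1 : K ≤ ep p G)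
    (h2 : K ≤ bb p G) : K = ⊥ := by
  rw [← hK, commutator_eq_bot_iff_le_centralizer]
  exact (h2.trans bb_le_centralizer_ep).trans (centralizer_le h1)

theorem map_ep_le {G' : Type*} [Group G'] {f : G →* G'} (hf : Function.Surjective f) :
    (ep p G).map f ≤ ep p G' := by
  rw [ep, Subgroup.map_iSup]
  refine iSup_le fun K => ?_
  rcases eq_or_ne ((K : Subgroup G).map f) ⊥ with h | h
  · rw [h]; exact bot_le
  · haveI : Nontrivial ((K : Subgroup G).map f) := (nontrivial_iff_ne_bot _).2 h
    haveI : Finite G' := Finite.of_surjective f hf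
    exact le_ep (isPComponent_map_of_surjective hf K.2.1 h)
      (isQuasisimple_of_surjective K.2.2 (f.subgroupMap_surjective _))

end CfsgLib.Invol.BLayer
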