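import Cfsg.Agent.Lib.Invol.BLayer.Base
import Cfsg.Prelude.Def_KGroupFacts

/-!
# `B_{p'}` balance
-/

set_option autoImplicit false
set_option linter.style.haveILetI false
set_option linter.unusedSectionVars false

namespace CfsgLib.Invol.BLayer

open Subgroup CfsgLib.Coprime CfsgLib.Invol.PTerminal
open scoped commutatorElement

universe u

variable {p : ℕ} [hp : Fact p.Prime]

theorem IsSec.of_quotient {X : Type u} [Group X] {M : Subgroup X} {Y Z : Type u} [Group Y] [Group Z]
    {q : M →* Y} (hq : Function.Surjective q) (h : IsSec Z Y) : IsSec Z X := by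
  obtain ⟨H', f, hf⟩ := h
  let e := (H'.comap q).equivMapOfInjective M.subtype M.subtype_injective
  have hc : Function.Surjective (q.subgroupComap H') := by
    rintro ⟨y, hy⟩
    obtain ⟨m, rfl⟩ := hq y
    exact ⟨⟨m, hy⟩, rfl⟩
  refine ⟨(H'.comap q).map M.subtype, f.comp ((q.subgroupComap H').comp e.symm.toMonoidHom), ?_⟩
  intro z
  obtain ⟨a, rfl⟩ := hf z
  obtain ⟨b, rfl⟩ := hc a
  refine ⟨e b, ?_⟩
  show f (q.subgroupComap H' (e.symm (e b))) = _
  rw [e.symm_apply_apply]

theorem secB_of_quotient {X : Type u} [Group X] {M : Subgroup X} {Y : Type u} [Group Y]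
    {q : M →* Y} (hq : Function.Surjective q) (h : SecB p X) : SecB p Y :=
  fun Z _ _ hZ => h Z (hZ.of_quotient hq)

theorem secS_of_quotient {X : Type u} [Group X] {M : Subgroup X} {Y : Type u} [Group Y]
    {q : M →* Y} (hq : Function.Surjective q) (h : SecS p X) : SecS p Y :=
  fun Z _ _ hZ => h Z (hZ.of_quotient hq)

/-- The non-quasisimple `p`-components of the centralizer of an element of order `p`. -/
theorem le_bb_of_centralizer {X : Type u} [Group X] [Finite X] (hB : SecB p X) (hS : SecS p X)
    {z : X} (hz : z ^ p = 1) {K : Subgroup X}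
    (hK : Cfsg.IsPComponentOf p K (centralizer ({z} : Set X))) (hq : ¬ Cfsg.IsQuasisimple ↥K) :
    K ≤ bb p X := by
  have hle : centralizer ({z} : Set X) ≤ normalizer ((zpowers z : Subgroup X) : Set X) := by
    rw [← centralizer_zpowers_eq]; exact centralizer_le_normalizer _
  have hn : ((centralizer ({z} : Set X)).subgroupOf
      (normalizer ((zpowers z : Subgroup X) : Set X))).Normal := by
    rw [normal_subgroupOf_iff_le_normalizer hle, ← centralizer_zpowers_eq]
    exact normalizer_le_normalizer_centralizer _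
  exact ((dichotomy hS (isPGroup_zpowers (k := 1) (by rwa [pow_one]))
    (pOf_of_subnormal hle (Normal.isSubnormal hn) hK)).2).resolve_left
      fun h => hq (qs_of_le_ep_prime hB hz hK h)

/-- A `p`-component of `N(R)` in the quasisimple half of the `p`-layer is quasisimple. -/
theorem qs_of_le_ep : ∀ (n : ℕ) (X : Type u) [Group X] [Finite X], SecB p X → SecS p X →
    ∀ R K : Subgroup X, IsPGroup p R → R ≠ ⊥ → Nat.card R = n →
      Cfsg.IsPComponentOf p K (normalizer (R : Set X)) → K ≤ ep p X → Cfsg.IsQuasisimple ↥K := by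
  intro n
  induction n using Nat.strongRecOn with
  | ind n ih =>
    intro X _ _ hB hS R K hR hR1 hn hK hKE
    obtain ⟨hKR, -⟩ := dichotomy hS hR hK
    set N := normalizer (R : Set X) with hN
    have hCn : ((centralizer (R : Set X)).subgroupOf N).Normal :=
      (normal_subgroupOf_iff_le_normalizer (centralizer_le_normalizer _)).2
        (normalizer_le_normalizer_centralizer R)
    have hKC : Cfsg.IsPComponentOf p K (centralizer (R : Set X)) :=
      pOf_restrict (centralizer_le_normalizer _) (Normal.isSubnormal hCn) hKR hK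
    haveI : Nontrivial R := (nontrivial_iff_ne_bot R).2 hR1
    haveI := hR.center_nontrivial
    obtain ⟨k, hk⟩ := IsPGroup.iff_card.1 (hR.to_subgroup (center R))
    have hk0 : k ≠ 0 := fun e => by
      rw [e, pow_zero] at hk
      exact absurd hk (Finite.one_lt_card (α := center R)).ne'
    obtain ⟨z₀, hz₀⟩ := exists_prime_orderOf_dvd_card' p (hk ▸ dvd_pow_self p hk0 : p ∣ Nat.card (center R))
    set z : X := ((z₀ : R) : X) with hzdef
    have hzord : orderOf z = p := by
      rw [hzdef, Subgroup.orderOf_coe, Subgroup.orderOf_coe, hz₀]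
    have hzp : z ^ p = 1 := hzord ▸ pow_orderOf_eq_one z
    have hzR : z ∈ R := (z₀ : R).2
    have hzc : ∀ r ∈ R, r * z = z * r := fun r hr =>
      congrArg Subtype.val (mem_center_iff.1 z₀.2 ⟨r, hr⟩)
    by_cases hcase : Nat.card R = p
    · have hRz : zpowers z = R := eq_of_le_of_card_ge (zpowers_le.2 hzR)
        (by rw [Nat.card_zpowers, hzord, hcase])
      rw [← hRz, centralizer_zpowers_eq] at hKC
      exact qs_of_le_ep_prime hB hzp hKC hKE
    set M := centralizer ({z} : Set X) with hM
    have hRM : R ≤ M := fun r hr => mem_centralizer_singleton_iff.2 (hzc r hr)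
    set N' := N ⊓ M with hN'
    have hCN' : centralizer (R : Set X) ≤ N' := le_inf (centralizer_le_normalizer _) fun c hc =>
      mem_centralizer_singleton_iff.2 (mem_centralizer_iff.1 hc z hzR).symm
    have hKN' : Cfsg.IsPComponentOf p K N' := pOf_of_subnormal hCN' (Normal.isSubnormal
      ((normal_subgroupOf_iff_le_normalizer hCN').2
        (inf_le_left.trans (normalizer_le_normalizer_centralizer R)))) hKC
    set Rm := R.subgroupOf M with hRm
    set Km := K.subgroupOf M with hKm
    have hnorm : N'.subgroupOf M = normalizer (Rm : Set M) := by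
      ext g
      rw [mem_subgroupOf, hN', Subgroup.mem_inf, mem_normalizer_iff, mem_normalizer_iff]
      refine ⟨fun h y => h.1 (y : X), fun h => ⟨fun y => ⟨fun hy => ?_, fun hy => ?_⟩, g.2⟩⟩
      · exact (h ⟨y, hRM hy⟩).1 hy
      · have hy' : y ∈ M := by
          have := mul_mem (mul_mem (inv_mem g.2) (hRM hy)) g.2
          rwa [show (g : X)⁻¹ * ((g : X) * y * (g : X)⁻¹) * g = y by group] at this
        exact (h ⟨y, hy'⟩).2 hy
    have hKmN : Cfsg.IsPComponentOf p Km (normalizer (Rm : Set M)) :=
      hnorm ▸ pOf_subgroupOf inf_le_right hKN'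
    have hqsM : SecS p M := secS_of_quotient (q := MonoidHom.id M) Function.surjective_id hS
    have hKperf : ⁅K, K⁆ = K := perfect_of_pOf hK
    have hKM : K ≤ M := hKN'.1.trans inf_le_right
    have hKmE : Km ≤ ep p M := by
      refine ((dichotomy hqsM hR.comap_subtype hKmN).2).resolve_right fun h => ?_
      have hbb : (bb p M).map M.subtype ≤ bb p X := by
        rw [map_le_iff_le_comap]
        refine iSup_le fun J => map_le_iff_le_comap.1 ?_
        refine le_bb_of_centralizer hB hS hzp (K := (J : Subgroup M).map M.subtype)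
          ⟨map_subtype_le _, ?_⟩ fun hq => J.2.2 (isQuasisimple_congr
            ((J : Subgroup M).equivMapOfInjective _ M.subtype_injective).symm hq)
        rw [subgroupOf, comap_map_eq_self_of_injective M.subtype_injective]
        exact J.2.1
      exact ne_bot_of_pOf hK (eq_bot_of_le_ep_of_le_bb hKperf hKE
        ((map_subgroupOf_eq_of_le hKM).ge.trans ((map_mono h).trans hbb)))
    set Z := (zpowers z).subgroupOf M with hZ
    have hzM : z ∈ M := hRM hzR
    have hcz : ∀ w ∈ Z, ∀ g : M, g * w = w * g := fun w hw g => by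
      obtain ⟨i, hi⟩ := mem_zpowers_iff.1 (mem_subgroupOf.1 hw)
      apply Subtype.ext
      rw [coe_mul, coe_mul, ← hi]
      exact ((show Commute (g : X) z from mem_centralizer_singleton_iff.1 g.2).zpow_right i).eq
    haveI : Z.Normal := ⟨fun w hw g => by rw [hcz w hw g, mul_inv_cancel_right]; exact hw⟩
    set q := QuotientGroup.mk' Z with hq
    have hZR : Z ≤ Rm := comap_mono (zpowers_le.2 hzR)
    have hqN : (normalizer (Rm : Set M)).map q = normalizer (Rm.map q : Set (M ⧸ Z)) := by
      refine le_antisymm (le_normalizer_map q) fun g hg => ?_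
      obtain ⟨g, rfl⟩ := QuotientGroup.mk'_surjective Z g
      refine mem_map_of_mem q ?_
      have h := le_normalizer_comap q (mem_comap.2 hg)
      rwa [comap_map_eq, QuotientGroup.ker_mk', sup_eq_left.2 hZR] at h
    have hKne : Km.map q ≠ ⊥ := fun e => by
      rw [Subgroup.map_eq_bot_iff, QuotientGroup.ker_mk'] at e
      have h1 : Km ≤ centralizer (Km : Set M) := fun a ha =>
        mem_centralizer_iff.2 fun b _ => hcz a (e ha) b
      refine ne_bot_of_pOf hKmN ?_
      rw [← perfect_of_pOf hKmN, commutator_eq_bot_iff_le_centralizer]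
      exact h1
    have hcard := card_eq_card_mul_card_map_mk' Z hZR
    have hcR : Nat.card Rm = Nat.card R := Nat.card_congr (subgroupOfEquivOfLe hRM).toEquiv
    have hcZ : Nat.card Z = p := by
      rw [hZ, Nat.card_congr (subgroupOfEquivOfLe (zpowers_le.2 hzM)).toEquiv, Nat.card_zpowers, hzord]
    rw [hcR, hcZ] at hcard
    have hlt : Nat.card (Rm.map q) < n := by
      rw [← hn, hcard]
      exact lt_mul_left Nat.card_pos hp.out.one_lt
    have hne : Rm.map q ≠ ⊥ := fun e => by
      rw [e, card_bot, mul_one] at hcard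
      exact hcase hcard
    have himg := pOf_map q hKmN hKne
    rw [hqN] at himg
    have hqs := ih _ hlt (M ⧸ Z) (secB_of_quotient (QuotientGroup.mk'_surjective Z) hB)
      (secS_of_quotient (QuotientGroup.mk'_surjective Z) hS) (Rm.map q) (Km.map q)
      (hR.comap_subtype.map q) hne rfl himg
      ((map_mono hKmE).trans (map_ep_le (QuotientGroup.mk'_surjective Z)))
    refine isQuasisimple_congr (subgroupOfEquivOfLe hKM) ?_
    refine isQuasisimple_of_central_ker ?_ hqs (q.subgroupMap_surjective Km) fun a ha => ?_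
    · refine map_injective Km.subtype_injective ?_
      rw [map_commutator, ← MonoidHom.range_eq_map, range_subtype, perfect_of_pOf hKmN]
    · have h1 : (a : M) ∈ Z :=
        (QuotientGroup.eq_one_iff (a : M)).1 (congrArg Subtype.val (MonoidHom.mem_ker.1 ha))
      exact mem_center_iff.2 fun b => Subtype.ext (hcz _ h1 b)

/-- `B_{p'}` balance. -/
theorem bb_normalizer_le {X : Type u} [Group X] [Finite X] (hB : SecB p X) (hS : SecS p X)
    {R : Subgroup X} (hR : IsPGroup p R) (hR1 : R ≠ ⊥) :
    (bb p ↥(normalizer (R : Set X))).map (normalizer (R : Set X)).subtype ≤ bb p X := by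
  rw [map_le_iff_le_comap]
  refine iSup_le fun J => map_le_iff_le_comap.1 ?_
  have hK : Cfsg.IsPComponentOf p ((J : Subgroup ↥(normalizer (R : Set X))).map
      (normalizer (R : Set X)).subtype) (normalizer (R : Set X)) := by
    refine ⟨map_subtype_le _, ?_⟩
    rw [subgroupOf, comap_map_eq_self_of_injective (normalizer (R : Set X)).subtype_injective]
    exact J.2.1
  refine ((dichotomy hS hR hK).2).resolve_left fun h => J.2.2 ?_
  exact isQuasisimple_congr (Subgroup.equivMapOfInjective _ _ (normalizer (R : Set X)).subtype_injective).symm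
    (qs_of_le_ep _ X hB hS R _ hR hR1 rfl hK h)

/-! ### From the frozen hypotheses -/

theorem hqgf_congr {Y Y' : Type u} [Group Y] [Group Y'] (e : Y ≃* Y')
    (h : Cfsg.HasQuasisimpleGeneralizedFitting Y) : Cfsg.HasQuasisimpleGeneralizedFitting Y' :=
  isQuasisimple_congr (((Cfsg.generalizedFittingSubgroup Y).equivMapOfInjective _ e.injective).trans
    (MulEquiv.subgroupCongr (map_generalizedFitting_equiv e))) h

theorem bp_congr {Y Y' : Type u} [Group Y] [Finite Y] [Group Y'] [Finite Y'] (e : Y ≃* Y')
    (h : Cfsg.HasBpProperty p Y) : Cfsg.HasBpProperty p Y' := by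
  refine ⟨by rw [← map_pPrimeCore_equiv e, h.1, Subgroup.map_bot], fun x' hx' K hK => ?_⟩
  set x := e.symm x' with hx
  have hex : e x = x' := e.apply_symm_apply x'
  let f : ↥(centralizer ({x'} : Set Y')) →* ↥(centralizer ({x} : Set Y)) :=
    (e.symm.toMonoidHom.comp (centralizer ({x'} : Set Y')).subtype).codRestrict _ fun g => by
      rw [mem_centralizer_singleton_iff]
      show e.symm g * e.symm x' = e.symm x' * e.symm g
      rw [← map_mul, ← map_mul, mem_centralizer_singleton_iff.1 g.2]
  have hf : Function.Bijective f := by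
    refine ⟨fun a b hab => Subtype.ext (e.symm.injective (congrArg Subtype.val hab)), ?_⟩
    rintro ⟨a, ha⟩
    refine ⟨⟨e a, mem_centralizer_singleton_iff.2 ?_⟩, Subtype.ext (e.symm_apply_apply a)⟩
    rw [← hex, ← map_mul, ← map_mul, mem_centralizer_singleton_iff.1 ha]
  have h1 := h.2 x (by rw [hx, MulEquiv.orderOf_eq]; exact hx') _
    (isPComponent_map_equiv (MulEquiv.ofBijective f hf) hK)
  exact isQuasisimple_congr (K.equivMapOfInjective _ (MulEquiv.ofBijective f hf).injective).symm h1

theorem out_congr {A B : Type u} [Group A] [Group B] (e : A ≃* B) :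
    Nonempty (Cfsg.Out A ≃* Cfsg.Out B) := by
  refine ⟨QuotientGroup.congr (Cfsg.Inn A) (Cfsg.Inn B) (MulAut.congr e) (le_antisymm ?_ ?_)⟩
  · rintro _ ⟨_, ⟨g, rfl⟩, rfl⟩
    exact ⟨e g, MulEquiv.ext fun x => by simp [MulAut.congr, MulAut.conj_apply]⟩
  · rintro _ ⟨h, rfl⟩
    exact ⟨_, ⟨e.symm h, rfl⟩, MulEquiv.ext fun x => by simp [MulAut.congr, MulAut.conj_apply]⟩

theorem generalizedFitting_eq_top {Y : Type u} [Group Y] (h : Cfsg.IsQuasisimple Y) :
    Cfsg.generalizedFittingSubgroup Y = ⊤ :=
  top_unique (le_trans (component_le_layer ⟨IsSubnormal.top, isQuasisimple_congr Subgroup.topEquiv.symm h⟩)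
    layer_le_generalizedFitting)

theorem secB_of_hyp {X : Type u} [Group X] [Finite X]
    (hB : ∀ (H : Subgroup X) (N : Subgroup ↥H) [N.Normal], Cfsg.HasQuasisimpleGeneralizedFitting (↥H ⧸ N) →
      Cfsg.pPrimeCore p (↥H ⧸ N) = ⊥ → Cfsg.HasBpProperty p (↥H ⧸ N)) : SecB p X := by
  rintro Y _ _ ⟨H, f, hf⟩ hF hO
  let e := QuotientGroup.quotientKerEquivOfSurjective f hf
  exact bp_congr e (hB H f.ker (hqgf_congr e.symm hF)
    (by rw [← map_pPrimeCore_equiv e.symm, hO, Subgroup.map_bot]))

theorem secS_of_hyp {X : Type u} [Group X] [Finite X]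
    (hS : ∀ (H : Subgroup X) (N : Subgroup ↥H) [N.Normal], Cfsg.HasQuasisimpleGeneralizedFitting (↥H ⧸ N) →
      Cfsg.pPrimeCore p (↥H ⧸ N) = ⊥ →
        Group.IsSolvable (Cfsg.Out (↥(Cfsg.generalizedFittingSubgroup (↥H ⧸ N)) ⧸
          Subgroup.center ↥(Cfsg.generalizedFittingSubgroup (↥H ⧸ N))))) : SecS p X := by
  rintro Y _ _ ⟨H, f, hf⟩ hY hO
  let e := QuotientGroup.quotientKerEquivOfSurjective f hf
  have hY' : Cfsg.IsQuasisimple (↥H ⧸ f.ker) := isQuasisimple_congr e.symm hY
  have ht := generalizedFitting_eq_top hY'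
  have h := hS H f.ker (by
    show Cfsg.IsQuasisimple ↥(Cfsg.generalizedFittingSubgroup (↥H ⧸ f.ker))
    rw [ht]; exact isQuasisimple_congr Subgroup.topEquiv.symm hY')
    (by rw [← map_pPrimeCore_equiv e.symm, hO, Subgroup.map_bot])
  let g : ↥(Cfsg.generalizedFittingSubgroup (↥H ⧸ f.ker)) ≃* Y :=
    (MulEquiv.subgroupCongr ht).trans (Subgroup.topEquiv.trans e)
  obtain ⟨g'⟩ := out_congr
    (QuotientGroup.congr (center _) (center Y) g (map_center_equiv g))
  haveI := h
  exact Group.isSolvable_of_surjective (f := g'.toMonoidHom) g'.surjective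

end CfsgLib.Invol.BLayer
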