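import Cfsg.Agent.Lib.Invol.BLayer.General

/-!
# `B_{p'}` balance: the dichotomy and the case of an element of order `p`
-/

set_option autoImplicit false
set_option linter.style.haveILetI false
set_option linter.unusedSectionVars false

namespace CfsgLib.Invol.BLayer

open Subgroup CfsgLib.Coprime CfsgLib.Invol.PTerminal
open scoped commutatorElement

universe u

/-- `Y` is a section of `X`. -/
def IsSec (Y : Type u) [Group Y] (X : Type u) [Group X] : Prop :=
  ∃ (H : Subgroup X) (f : ↥H →* Y), Function.Surjective f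

/-- All relevant sections have the `B_p`-property. -/
def SecB (p : ℕ) (X : Type u) [Group X] : Prop :=
  ∀ (Y : Type u) [Group Y] [Finite Y], IsSec Y X → Cfsg.HasQuasisimpleGeneralizedFitting Y →
    Cfsg.pPrimeCore p Y = ⊥ → Cfsg.HasBpProperty p Y

/-- All relevant quasisimple sections have solvable outer automorphism group. -/
def SecS (p : ℕ) (X : Type u) [Group X] : Prop :=
  ∀ (Y : Type u) [Group Y] [Finite Y], IsSec Y X → Cfsg.IsQuasisimple Y → Cfsg.pPrimeCore p Y = ⊥ →
    Group.IsSolvable (Cfsg.Out (Y ⧸ center Y))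

variable {X : Type u} [Group X] [Finite X] {p : ℕ} [hp : Fact p.Prime]

theorem schreier_of_secS (hS : SecS p X) :
    ∀ K : Subgroup (X ⧸ Cfsg.pPrimeCore p X), Cfsg.IsComponent K →
      Group.IsSolvable (Cfsg.Out (↥K ⧸ center ↥K)) := fun K hK =>
  hS ↥K ⟨_, (QuotientGroup.mk' (Cfsg.pPrimeCore p X)).subgroupComap K,
      fun ⟨q, hq⟩ => by
        obtain ⟨g, rfl⟩ := QuotientGroup.mk'_surjective _ q
        exact ⟨⟨g, hq⟩, rfl⟩⟩ hK.2
    (noPP_of_isComponent (pPrimeCore_quotient_eq_bot hp.out) hK _ inferInstance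
      (pPrimeCore_not_dvd hp.out))

/-- A `p`-component of `N(R)` centralizes `R` and lies in one half of the `p`-layer. -/
theorem dichotomy (hS : SecS p X) {R K : Subgroup X} (hR : IsPGroup p R)
    (hK : Cfsg.IsPComponentOf p K (normalizer (R : Set X))) :
    K ≤ centralizer (R : Set X) ∧ (K ≤ ep p X ∨ K ≤ bb p X) := by
  set N := normalizer (R : Set X) with hN
  set CR := centralizer (R : Set X) with hCR
  have hperf := perfect_of_pOf hK
  haveI : (R.subgroupOf N).Normal := (normal_subgroupOf_iff_le_normalizer le_normalizer).2 le_rfl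
  have hKR : K ≤ CR := by
    have h := congrArg (Subgroup.map N.subtype)
      (pComponent_commutes_pGroup hK.2 (A := R.subgroupOf N) hR.comap_subtype)
    rw [map_commutator, Subgroup.map_bot, map_subgroupOf_eq_of_le (le_normalizer : R ≤ N),
      map_subgroupOf_eq_of_le hK.1, commutator_comm, commutator_eq_bot_iff_le_centralizer] at h
    exact h
  refine ⟨hKR, ?_⟩
  haveI hEn : (ep p X).Normal := ep_normal
  haveI hBn : (bb p X).Normal := bb_normal
  set E := ep p X with hE
  set CE := centralizer (E : Set X) with hCE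
  haveI : CE.Normal := inferInstance
  have hKL : K ≤ E ⊔ bb p X := by
    refine le_trans ?_ ((lBalance_of_solvable_out (schreier_of_secS hS) hR).trans pLayer_le_ep_sup_bb)
    rw [← map_subgroupOf_eq_of_le hK.1]
    exact map_mono (pComponent_le_pLayer hK.2)
  set E1 := E ⊓ CR with hE1
  set C1 := CE ⊓ CR with hC1
  have hsup : K ≤ E1 ⊔ C1 := by
    rw [← hperf, commutator_le]
    intro k hk k' hk'
    obtain ⟨e, he, b, hb, rfl⟩ := mem_sup_of_normal_right.1 (hKL hk)
    obtain ⟨e', he', b', hb', rfl⟩ := mem_sup_of_normal_right.1 (hKL hk')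
    have hbC := bb_le_centralizer_ep hb
    have hbC' := bb_le_centralizer_ep hb'
    have hfix : ∀ r ∈ R, ∀ e b, e ∈ E → b ∈ CE → e * b ∈ K →
        ∃ z ∈ CE, z ∈ E ∧ r * e * r⁻¹ = e * z := by
      intro r hr e b he hb heb
      have hre : r * e * r⁻¹ ∈ E := hEn.conj_mem e he r
      have hrb : r * b * r⁻¹ ∈ CE := Normal.conj_mem inferInstance b hb r
      have e0 : r * (e * b) * r⁻¹ = e * b := by
        rw [mem_centralizer_iff.1 (hKR heb) r hr, mul_inv_cancel_right]
      refine ⟨e⁻¹ * (r * e * r⁻¹), ?_, mul_mem (inv_mem he) hre, by group⟩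
      have e' : e⁻¹ * (r * e * r⁻¹) = b * (r * b * r⁻¹)⁻¹ := by
        calc e⁻¹ * (r * e * r⁻¹) = e⁻¹ * (r * (e * b) * r⁻¹) * (r * b * r⁻¹)⁻¹ := by group
          _ = b * (r * b * r⁻¹)⁻¹ := by rw [e0]; group
      rw [e']
      exact mul_mem hb (inv_mem hrb)
    have hee : ⁅e, e'⁆ ∈ E := by
      rw [commutatorElement_def]
      exact mul_mem (mul_mem (mul_mem he he') (inv_mem he)) (inv_mem he')
    have h1 : ⁅e, e'⁆ ∈ CR := by
      rw [mem_centralizer_iff]
      intro r hr
      obtain ⟨z, hz, hzE, ez⟩ := hfix r hr e b he hbC hk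
      obtain ⟨z', hz', hzE', ez'⟩ := hfix r hr e' b' he' hbC' hk'
      have h1 : r * ⁅e, e'⁆ * r⁻¹ = ⁅e * z, e' * z'⁆ := by
        rw [← ez, ← ez']; exact map_commutatorElement (MulAut.conj r) e e'
      have h2 : ⁅e * z, e' * z'⁆ = ⁅e, e'⁆ := by
        have cz : ∀ t ∈ E, t * z = z * t := fun t ht => mem_centralizer_iff.1 hz t ht
        have cz' : ∀ t ∈ E, t * z' = z' * t := fun t ht => mem_centralizer_iff.1 hz' t ht
        simp only [commutatorElement_def, mul_inv_rev]
        calc e * z * (e' * z') * (z⁻¹ * e⁻¹) * (z'⁻¹ * e'⁻¹)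
            = e * (z * (e' * z')) * z⁻¹ * e⁻¹ * z'⁻¹ * e'⁻¹ := by group
          _ = e * ((e' * z') * z) * z⁻¹ * e⁻¹ * z'⁻¹ * e'⁻¹ := by rw [cz _ (mul_mem he' hzE')]
          _ = e * e' * (z' * e⁻¹) * z'⁻¹ * e'⁻¹ := by group
          _ = e * e' * (e⁻¹ * z') * z'⁻¹ * e'⁻¹ := by rw [cz' _ (inv_mem he)]
          _ = e * e' * e⁻¹ * e'⁻¹ := by group
      rw [h2] at h1
      exact mul_inv_eq_iff_eq_mul.1 h1
    have h2 : ⁅e, e'⁆⁻¹ * ⁅e * b, e' * b'⁆ ∈ C1 := by
      refine Subgroup.mem_inf.2 ⟨(QuotientGroup.eq_one_iff _).1 ?_, mul_mem (inv_mem h1) ?_⟩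
      · show QuotientGroup.mk' CE _ = 1
        rw [map_mul, map_inv, map_commutatorElement, map_commutatorElement, map_mul, map_mul,
          show QuotientGroup.mk' CE b = 1 from (QuotientGroup.eq_one_iff b).2 hbC,
          show QuotientGroup.mk' CE b' = 1 from (QuotientGroup.eq_one_iff b').2 hbC',
          mul_one, mul_one, inv_mul_cancel]
      · rw [commutatorElement_def]
        exact mul_mem (mul_mem (mul_mem (hKR hk) (hKR hk')) (inv_mem (hKR hk))) (inv_mem (hKR hk'))
    have h3 := mul_mem_sup (show ⁅e, e'⁆ ∈ E1 from Subgroup.mem_inf.2 ⟨hee, h1⟩) h2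
    rwa [mul_inv_cancel_left] at h3
  have hE1N : E1 ≤ N := inf_le_right.trans (centralizer_le_normalizer _)
  have hC1N : C1 ≤ N := inf_le_right.trans (centralizer_le_normalizer _)
  haveI : (E1.subgroupOf N).Normal := (normal_subgroupOf_iff_le_normalizer hE1N).2
    (inf_le_normalizer (by rw [Subgroup.normalizer_eq_top E]; exact le_top)
      (normalizer_le_normalizer_centralizer R))
  haveI : (C1.subgroupOf N).Normal := (normal_subgroupOf_iff_le_normalizer hC1N).2
    (inf_le_normalizer (by rw [Subgroup.normalizer_eq_top CE]; exact le_top)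
      (normalizer_le_normalizer_centralizer R))
  rcases le_or_commute (U := E1.subgroupOf N) hK.2 with h | h
  · left
    intro k hk
    exact (Subgroup.mem_inf.1 (mem_subgroupOf.1 (h (x := ⟨k, hK.1 hk⟩) (mem_subgroupOf.2 hk)))).1
  rcases le_or_commute (U := C1.subgroupOf N) hK.2 with h' | h'
  · right
    have hC : K ≤ CE := fun k hk =>
      (Subgroup.mem_inf.1 (mem_subgroupOf.1 (h' (x := ⟨k, hK.1 hk⟩) (mem_subgroupOf.2 hk)))).1
    rw [← hperf, commutator_le]
    intro k hk k' hk'
    obtain ⟨e, he, b, hb, rfl⟩ := mem_sup_of_normal_right.1 (hKL hk)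
    obtain ⟨e', he', b', hb', rfl⟩ := mem_sup_of_normal_right.1 (hKL hk')
    have heC : e ∈ CE := by
      have := mul_mem (hC hk) (inv_mem (bb_le_centralizer_ep hb))
      rwa [mul_inv_cancel_right] at this
    have hc : ⁅e, e'⁆ = 1 := commutatorElement_eq_one_iff_mul_comm.2
      (mem_centralizer_iff.1 heC e' he').symm
    refine (QuotientGroup.eq_one_iff _).1 ?_
    show QuotientGroup.mk' (bb p X) _ = 1
    rw [map_commutatorElement, map_mul, map_mul,
      show QuotientGroup.mk' (bb p X) b = 1 from (QuotientGroup.eq_one_iff b).2 hb,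
      show QuotientGroup.mk' (bb p X) b' = 1 from (QuotientGroup.eq_one_iff b').2 hb',
      mul_one, mul_one, ← map_commutatorElement, hc, map_one]
  exfalso
  have hsub : K.subgroupOf N ≤ E1.subgroupOf N ⊔ C1.subgroupOf N := by
    rw [← map_le_map_iff_of_injective N.subtype_injective, Subgroup.map_sup,
      map_subgroupOf_eq_of_le hK.1, map_subgroupOf_eq_of_le hE1N, map_subgroupOf_eq_of_le hC1N]
    exact hsup
  have hsub' := map_mono (f := QuotientGroup.mk' (Cfsg.pPrimeCore p N)) hsub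
  rw [Subgroup.map_sup] at hsub'
  rw [commutator_comm, commutator_eq_bot_iff_le_centralizer] at h h'
  refine not_le_of_isComponent_of_isSolvable hK.2.2.1
    (show Group.IsSolvable (⊥ : Subgroup (↥N ⧸ Cfsg.pPrimeCore p ↥N)) from inferInstance) ?_
  rw [← commutator_self_of_isComponent hK.2.2.1, commutator_eq_bot_iff_le_centralizer.2]
  exact hsub'.trans (sup_le h h')

section Component

variable {L : Subgroup X}

theorem exists_fixed_of_moved (hL : Cfsg.IsComponent L) {x : X} (hx : x ^ p = 1)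
    (hm : x ∉ normalizer (L : Set X)) {E : Subgroup X} [E.Normal] (hLE : L ≤ E) {l : X} (hl : l ∈ L) :
    ∃ e ∈ E, Commute e x ∧ l⁻¹ * e ∈ centralizer (L : Set X) := by
  haveI : NeZero p := ⟨hp.out.ne_zero⟩
  set Φ := MonoidHom.noncommPiCoprod (emb (p := p) x L) (emb_commute hx hL hm) with hΦ
  have hsingle : ∀ (i : ZMod p) (t : L), Φ (Pi.mulSingle i t) = emb x L i t := fun i t =>
    MonoidHom.noncommPiCoprod_mulSingle _ _ _
  have hshift : ∀ f : ZMod p → L, x * Φ f * x⁻¹ = Φ (fun i => f (i - 1)) := by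
    intro f
    have hh : (MulAut.conj x).toMonoidHom.comp Φ =
        Φ.comp (MonoidHom.pi fun i : ZMod p => Pi.evalMonoidHom (fun _ : ZMod p => L) (i - 1)) := by
      refine MonoidHom.pi_ext fun i t => ?_
      show x * Φ (Pi.mulSingle i t) * x⁻¹ = Φ (fun k => (Pi.mulSingle i t : ZMod p → L) (k - 1))
      have e : (fun k => (Pi.mulSingle i t : ZMod p → L) (k - 1)) = Pi.mulSingle (i + 1) t := by
        funext k
        rw [Pi.mulSingle_apply, Pi.mulSingle_apply]
        simp only [sub_eq_iff_eq_add]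
      rw [e, hsingle, hsingle, emb_apply, emb_apply, add_comm i 1, apow_add hx, apow_one]
      group
    exact DFunLike.congr_fun hh f
  set g : ZMod p → L := fun i => if i = 0 then 1 else ⟨l, hl⟩ with hg
  have hsplit : (fun _ : ZMod p => (⟨l, hl⟩ : L)) = Pi.mulSingle 0 ⟨l, hl⟩ * g := by
    funext k
    rcases eq_or_ne k 0 with rfl | hk
    · simp [hg]
    · simp [hg, hk]
  refine ⟨Φ (fun _ => ⟨l, hl⟩), ?_, (mul_inv_eq_iff_eq_mul.1 (hshift fun _ => ⟨l, hl⟩)).symm, ?_⟩
  · refine ((MonoidHom.noncommPiCoprod_range (ϕ := emb (p := p) x L) (hcomm := emb_commute hx hL hm)).le.trans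
      (iSup_le ?_)) ⟨_, rfl⟩
    rintro i _ ⟨t, rfl⟩
    exact Normal.conj_mem inferInstance _ (hLE t.2) _
  · rw [hsplit, map_mul, hsingle, emb_apply, apow_zero, one_mul, inv_one, mul_one,
      inv_mul_cancel_left]
    rw [mem_centralizer_iff]
    intro t ht
    have h0 : Φ (Pi.mulSingle 0 ⟨t, ht⟩) = t := by rw [hsingle, emb_apply, apow_zero]; group
    have hz : Pi.mulSingle 0 (⟨t, ht⟩ : L) * g = g * Pi.mulSingle 0 ⟨t, ht⟩ := by
      funext k
      rcases eq_or_ne k 0 with rfl | hk
      · simp [hg]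
      · simp [Pi.mulSingle_eq_of_ne hk]
    rw [← h0, ← map_mul, hz, map_mul, h0]

end Component

/-- The case of an element of order `p`: such a `p`-component inside `ep` is quasisimple. -/
theorem qs_of_le_ep_prime (hB : SecB p X) {x : X} (hx : x ^ p = 1) {K : Subgroup X}
    (hK : Cfsg.IsPComponentOf p K (centralizer ({x} : Set X))) (hKE : K ≤ ep p X) :
    Cfsg.IsQuasisimple ↥K := by
  haveI hEn : (ep p X).Normal := ep_normal
  set Cx := centralizer ({x} : Set X) with hCx
  set E1 := ep p X ⊓ Cx with hE1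
  have hK1 : K ≤ E1 := le_inf hKE hK.1
  haveI : (E1.subgroupOf Cx).Normal := (normal_subgroupOf_iff_le_normalizer inf_le_right).2
    (inf_le_normalizer (by rw [Subgroup.normalizer_eq_top (ep p X)]; exact le_top) le_normalizer)
  have hKE1 : Cfsg.IsPComponentOf p K E1 :=
    pOf_restrict inf_le_right (Normal.isSubnormal inferInstance) hK1 hK
  have hperf : ⁅(⊤ : Subgroup K), (⊤ : Subgroup K)⁆ = (⊤ : Subgroup K) := by
    refine map_injective K.subtype_injective ?_
    rw [map_commutator, ← MonoidHom.range_eq_map, range_subtype, perfect_of_pOf hK]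
  have hclo : pClosure p (⊤ : Subgroup K) = (⊤ : Subgroup K) := by
    refine map_injective K.subtype_injective ?_
    rw [map_pClosure, ← MonoidHom.range_eq_map, range_subtype, PTerminal.pClosure_eq hK]
  set f := barHom p hK.1
  have hfq : Cfsg.IsQuasisimple f.range := by rw [range_barHom]; exact hK.2.2.1.2
  refine isQuasisimple_of_central_ker hperf hfq f.rangeRestrict_surjective ?_
  rw [MonoidHom.ker_rangeRestrict]
  set N0 := f.ker with hN0
  have hN0p : ¬ p ∣ Nat.card N0 := not_dvd_card_ker_barHom hK.1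
  suffices h : ∀ n ∈ N0, ∀ k : K, ((⁅n, k⁆ : K) : X) ∈ centralizer (ep p X : Set X) by
    have h1 : ⁅N0, (⊤ : Subgroup K)⁆ ≤ center K := commutator_le.2 fun n hn k _ =>
      mem_center_iff.2 fun t => Subtype.ext (mem_centralizer_iff.1 (h n hn k) t (hKE t.2))
    have h2 : ⁅N0, (⊤ : Subgroup K)⁆ = ⊥ := commutator_eq_bot_of_perfect hperf
      (commutator_eq_bot_iff_le_centralizer.2 (h1.trans (center_le_centralizer _)))
    rw [commutator_eq_bot_iff_le_centralizer, coe_top, centralizer_univ] at h2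
    exact h2
  intro n hn k
  -- reduce to a single component
  suffices h : ∀ L : Subgroup X, Cfsg.IsPComponent p L → Cfsg.IsQuasisimple ↥L →
      L ≤ centralizer ({((⁅n, k⁆ : K) : X)} : Set X) by
    have h1 : ep p X ≤ centralizer ({((⁅n, k⁆ : K) : X)} : Set X) := iSup_le fun L => h L L.2.1 L.2.2
    exact mem_centralizer_iff.2 fun t ht => mem_centralizer_singleton_iff.1 (h1 ht)
  intro L hLp hLq
  have hL : Cfsg.IsComponent L := ⟨hLp.1, hLq⟩
  have hLE : L ≤ ep p X := le_ep hLp hLq
  set H := normalizer (L : Set X) with hH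
  have hEH : ep p X ≤ H := ep_le_layer.trans (layer_le_normalizer_component hL)
  set C := (centralizer (L : Set X)).subgroupOf H with hC
  haveI : C.Normal := (normal_subgroupOf_iff_le_normalizer (centralizer_le_normalizer _)).2
    (normalizer_le_normalizer_centralizer L)
  set ρ := QuotientGroup.mk' C with hρ
  set φ : E1 →* ↥H ⧸ C := ρ.comp (inclusion (inf_le_left.trans hEH)) with hφ
  set Lb := (L.subgroupOf H).map ρ with hLb
  haveI hLHn : (L.subgroupOf H).Normal := (normal_subgroupOf_iff_le_normalizer le_normalizer).2 le_rfl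
  haveI : Lb.Normal := Normal.map hLHn ρ (QuotientGroup.mk'_surjective _)
  have hLne : Lb ≠ ⊥ := fun e => by
    rw [hLb, Subgroup.map_eq_bot_iff, QuotientGroup.ker_mk'] at e
    have h1 : L ≤ centralizer (L : Set X) := fun l hl =>
      mem_subgroupOf.1 (e (x := ⟨l, le_normalizer hl⟩) (mem_subgroupOf.2 hl))
    refine not_le_of_isComponent_of_isSolvable hL
      (show Group.IsSolvable (⊥ : Subgroup X) from inferInstance) ?_
    rw [← commutator_self_of_isComponent hL, commutator_eq_bot_iff_le_centralizer.2 h1]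
  haveI : Nontrivial Lb := (nontrivial_iff_ne_bot _).2 hLne
  have hLbq : Cfsg.IsQuasisimple Lb := isQuasisimple_of_surjective
    (isQuasisimple_congr (subgroupOfEquivOfLe (le_normalizer : L ≤ H)).symm hLq)
    (ρ.subgroupMap_surjective (L.subgroupOf H))
  have hLbc : Cfsg.IsComponent Lb := ⟨Normal.isSubnormal inferInstance, hLbq⟩
  have hφL : φ.range ≤ Lb := by
    rintro _ ⟨⟨e, he⟩, rfl⟩
    obtain ⟨j, hj, c, hc, rfl⟩ := exists_mul_of_mem_layer hL (ep_le_layer (Subgroup.mem_inf.1 he).1)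
    refine ⟨⟨j, le_normalizer hj⟩, mem_subgroupOf.2 hj, ?_⟩
    refine QuotientGroup.eq.2 (mem_subgroupOf.2 ?_)
    show j⁻¹ * (j * c) ∈ centralizer (L : Set X)
    rwa [inv_mul_cancel_left]
  -- it suffices that the image of `K` is trivial or quasisimple
  have kills : ∀ {A : Type u} [Group A] (θ : E1 →* A),
      ((K.subgroupOf E1).map θ.rangeRestrict ≠ ⊥ →
        Cfsg.IsQuasisimple ↥((K.subgroupOf E1).map θ.rangeRestrict)) →
      θ ⟨((⁅n, k⁆ : K) : X), hK1 (⁅n, k⁆ : K).2⟩ = 1 := by
    intro A _ θ hq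
    set M := (K.subgroupOf E1).map θ.rangeRestrict with hM
    set ψ : K →* M := (θ.rangeRestrict.comp (inclusion hK1)).codRestrict M
      fun t => mem_map_of_mem _ (mem_subgroupOf.2 t.2)
    have hψ : Function.Surjective ψ := by
      rintro ⟨_, ⟨e, he, rfl⟩⟩
      exact ⟨⟨e, he⟩, rfl⟩
    suffices h : ψ ⁅n, k⁆ = 1 from congrArg (fun t : M => ((t : θ.range) : A)) h
    by_cases hne : M = ⊥
    · exact Subtype.ext (mem_bot.1 (hne ▸ (ψ ⁅n, k⁆).2 : ((ψ ⁅n, k⁆ : M) : θ.range) ∈ (⊥ : Subgroup θ.range)))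
    haveI : Finite M := Finite.of_surjective ψ hψ
    haveI : (N0.map ψ).Normal := Normal.map inferInstance ψ hψ
    have hp' : ¬ p ∣ Nat.card (N0.map ψ) := fun hd => hN0p (hd.trans (card_map_dvd _ ψ))
    rcases subnormal_eq_top_or_le_center (hq hne) (Normal.isSubnormal (H := N0.map ψ) inferInstance) with
      h | h
    · exfalso
      have hMc : pClosure p (⊤ : Subgroup M) = (⊤ : Subgroup M) := by
        rw [← map_top_of_surjective ψ hψ, ← map_pClosure, hclo]
      rw [h] at hp'
      exact (nontrivial_iff_ne_bot M).2 hne |>.exists_pair_ne.elim fun a ⟨b, hab⟩ => hab <| by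
        have e := eq_bot_of_pClosure_eq hMc hp'
        rw [mem_bot.1 (e ▸ mem_top a : a ∈ (⊥ : Subgroup M)), mem_bot.1 (e ▸ mem_top b : b ∈ (⊥ : Subgroup M))]
    · rw [map_commutatorElement, commutatorElement_eq_one_iff_mul_comm]
      exact (mem_center_iff.1 (h (mem_map_of_mem ψ hn)) (ψ k)).symm
  -- conclusion from `φ`
  suffices h : φ ⟨((⁅n, k⁆ : K) : X), hK1 (⁅n, k⁆ : K).2⟩ = 1 by
    have h' : ρ ⟨((⁅n, k⁆ : K) : X), hEH (hKE (⁅n, k⁆ : K).2)⟩ = 1 := h
    have h1 : ((⁅n, k⁆ : K) : X) ∈ centralizer (L : Set X) :=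
      mem_subgroupOf.1 (show (⟨((⁅n, k⁆ : K) : X), hEH (hKE (⁅n, k⁆ : K).2)⟩ : H) ∈
        (centralizer (L : Set X)).subgroupOf H from
          (QuotientGroup.eq_one_iff (N := C) _).1 h')
    exact fun t ht => mem_centralizer_singleton_iff.2 (mem_centralizer_iff.1 h1 t ht)
  -- the image of `K` as a `p`-component of the image of `C(x)`
  have himg : ∀ {A : Type u} [Group A] (θ : E1 →* A),
      (K.subgroupOf E1).map θ.rangeRestrict ≠ ⊥ →
        Cfsg.IsPComponent p ((K.subgroupOf E1).map θ.rangeRestrict) := fun θ hne =>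
    isPComponent_map_of_surjective θ.rangeRestrict_surjective hKE1.2 hne
  by_cases hcase : x ∈ normalizer (L : Set X) ∧ x ∉ centralizer (L : Set X)
  · -- `x` acts on `L`: use the `B_p`-property
    obtain ⟨hxH, hxC⟩ := hcase
    have hcent : centralizer (Lb : Set (↥H ⧸ C)) = ⊥ := by
      rw [eq_bot_iff]
      intro a ha
      obtain ⟨g, rfl⟩ := QuotientGroup.mk'_surjective C a
      refine mem_bot.2 ((QuotientGroup.eq_one_iff g).2 (mem_subgroupOf.2
        (mem_centralizer_of_commutator_central (commutator_self_of_isComponent hL) fun l hl => ?_)))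
      refine Subgroup.mem_inf.2 ⟨mul_mem ((mem_normalizer_iff.1 g.2 l).1 hl) (inv_mem hl), ?_⟩
      have h1 := mem_centralizer_iff.1 ha _ (mem_map_of_mem ρ
        (mem_subgroupOf.2 hl : (⟨l, le_normalizer hl⟩ : H) ∈ L.subgroupOf H))
      have h2 : ρ (g * ⟨l, le_normalizer hl⟩ * g⁻¹ * ⟨l, le_normalizer hl⟩⁻¹) = 1 := by
        rw [map_mul, map_mul, map_mul, map_inv, map_inv, ← h1, mul_inv_cancel_right, mul_inv_cancel]
      exact mem_subgroupOf.1 ((QuotientGroup.eq_one_iff _).1 h2)
    have hlayer : Cfsg.layer (↥H ⧸ C) = Lb := by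
      refine le_antisymm (sSup_le fun J hJ => ?_) (component_le_layer hLbc)
      by_contra hle
      refine not_le_of_isComponent_of_isSolvable hJ
        (show Group.IsSolvable (⊥ : Subgroup (↥H ⧸ C)) from inferInstance) ?_
      rw [← hcent]
      exact commutator_eq_bot_iff_le_centralizer.1
        (components_commute hJ hLbc fun e => hle e.le)
    have hFit : Cfsg.fittingSubgroup (↥H ⧸ C) = ⊥ := by
      rw [eq_bot_iff, ← hcent, ← hlayer, ← commutator_eq_bot_iff_le_centralizer, commutator_comm]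
      exact layer_commutator_fitting_eq_bot
    have hF : Cfsg.HasQuasisimpleGeneralizedFitting (↥H ⧸ C) := by
      rw [Cfsg.HasQuasisimpleGeneralizedFitting, Cfsg.generalizedFittingSubgroup, hlayer, hFit, sup_bot_eq]
      exact hLbq
    have hdLb : p ∣ Nat.card Lb := by
      by_contra hd
      obtain ⟨l, i, hli, hlc⟩ := exists_pElement_not_mem_center hLq (dvd_card_pComponent hLp)
      have hm : ρ ⟨l, le_normalizer l.2⟩ ∈ Lb :=
        mem_map_of_mem ρ (mem_subgroupOf.2 l.2 : (⟨l, le_normalizer l.2⟩ : H) ∈ L.subgroupOf H)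
      have h1 : ρ ⟨l, le_normalizer l.2⟩ ^ p ^ i = 1 := by
        rw [← map_pow, show (⟨l, le_normalizer l.2⟩ : H) ^ p ^ i = 1 from
          Subtype.ext (by simpa using congrArg Subtype.val hli), map_one]
      have h2 : ρ ⟨l, le_normalizer l.2⟩ = 1 := by
        obtain ⟨j, -, hj⟩ := (Nat.dvd_prime_pow hp.out).1 (orderOf_dvd_of_pow_eq_one h1)
        rcases j.eq_zero_or_pos with h | h
        · exact orderOf_eq_one_iff.1 (by rw [hj, h, pow_zero])
        · refine absurd ((dvd_pow_self p h.ne').trans (hj ▸ ?_)) hd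
          rw [← Subgroup.orderOf_mk _ hm]
          exact orderOf_dvd_natCard _
      exact hlc (mem_center_iff.2 fun t => Subtype.ext
        (mem_centralizer_iff.1 (mem_subgroupOf.1 ((QuotientGroup.eq_one_iff _).1 h2)) t t.2))
    have hO : Cfsg.pPrimeCore p (↥H ⧸ C) = ⊥ := by
      rcases component_le_or_commutator_eq_bot hLbc
        (Normal.isSubnormal (inferInstance : (Cfsg.pPrimeCore p (↥H ⧸ C)).Normal)) with h | h
      · exact absurd (hdLb.trans (card_dvd_of_le h)) (pPrimeCore_not_dvd hp.out)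
      · rw [commutator_comm, commutator_eq_bot_iff_le_centralizer, hcent] at h
        exact le_bot_iff.1 h
    obtain ⟨-, hBp⟩ := hB (↥H ⧸ C) ⟨H, ρ, QuotientGroup.mk'_surjective _⟩ hF hO
    set a := ρ ⟨x, hxH⟩ with hadef
    have haord : orderOf a = p := orderOf_eq_prime
      (by rw [hadef, ← map_pow, show (⟨x, hxH⟩ : H) ^ p = 1 from Subtype.ext hx, map_one])
      fun e => hxC (mem_subgroupOf.1 ((QuotientGroup.eq_one_iff _).1 e))
    set C' := centralizer ({a} : Set (↥H ⧸ C)) with hC'
    have hmem : ∀ e : E1, φ e ∈ C' := fun e => by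
      rw [hC', mem_centralizer_singleton_iff, hadef]
      show ρ _ * ρ _ = ρ _ * ρ _
      rw [← map_mul, ← map_mul]
      exact congrArg ρ (Subtype.ext (mem_centralizer_singleton_iff.1 (Subgroup.mem_inf.1 e.2).2))
    set φ' := φ.codRestrict C' hmem with hφ'
    set T := Lb.subgroupOf C' with hT
    haveI hTn : T.Normal := inferInstance
    have hRT : φ'.range ≤ T := by
      rintro _ ⟨e, rfl⟩
      exact mem_subgroupOf.2 (hφL ⟨e, rfl⟩)
    have hsub : φ'.range.IsSubnormal := by
      refine IsSubnormal.trans hRT (Normal.isSubnormal ⟨fun r hr t => ?_⟩) (Normal.isSubnormal hTn)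
      rw [mem_subgroupOf] at hr ⊢
      obtain ⟨e, he⟩ := hr
      obtain ⟨l, hl, hlt⟩ := mem_subgroupOf.1 t.2
      have hlL : (l : X) ∈ L := mem_subgroupOf.1 hl
      have hfix := mem_centralizer_singleton_iff.1 (t : C').2
      rw [← hlt, hadef, ← map_mul, ← map_mul] at hfix
      have hz : (x : X) * l * x⁻¹ * (l : X)⁻¹ ∈ centralizer (L : Set X) := by
        have h1 : ρ (⟨x, hxH⟩ * l * ⟨x, hxH⟩⁻¹ * l⁻¹) = 1 := by
          rw [map_mul, map_mul, map_inv, map_inv, ← hfix, map_mul, mul_inv_cancel_right,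
            mul_inv_cancel]
        exact mem_subgroupOf.1 ((QuotientGroup.eq_one_iff _).1 h1)
      set z := (x : X) * l * x⁻¹ * (l : X)⁻¹ with hzdef
      have hzL : z ∈ L := mul_mem ((mem_normalizer_iff.1 hxH _).1 hlL) (inv_mem hlL)
      have he1 : (l : X) * e * (l : X)⁻¹ ∈ ep p X :=
        hEn.conj_mem _ (Subgroup.mem_inf.1 e.2).1 _
      have hzc : z * ((l : X) * e * (l : X)⁻¹) = ((l : X) * e * (l : X)⁻¹) * z := by
        obtain ⟨j, hj, c, hc, hjc⟩ := exists_mul_of_mem_layer hL (ep_le_layer he1)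
        rw [hjc, ← mul_assoc, ← mem_centralizer_iff.1 hz j hj, mul_assoc j z c,
          mem_centralizer_iff.1 hc z hzL, mul_assoc]
      have he2 : (l : X) * e * (l : X)⁻¹ ∈ E1 := by
        refine Subgroup.mem_inf.2 ⟨he1, mem_centralizer_singleton_iff.2 ?_⟩
        have hex : x * e * x⁻¹ = e := by
          rw [← mem_centralizer_singleton_iff.1 (Subgroup.mem_inf.1 e.2).2, mul_inv_cancel_right]
        have h1 : x * ((l : X) * e * (l : X)⁻¹) * x⁻¹ = (l : X) * e * (l : X)⁻¹ := by
          calc x * ((l : X) * e * (l : X)⁻¹) * x⁻¹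
              = (z * l) * (x * e * x⁻¹) * (z * l)⁻¹ := by rw [hzdef]; group
            _ = z * ((l : X) * e * (l : X)⁻¹) * z⁻¹ := by rw [hex]; group
            _ = (l : X) * e * (l : X)⁻¹ := by rw [hzc, mul_inv_cancel_right]
        exact (mul_inv_eq_iff_eq_mul.1 h1).symm
      refine ⟨⟨_, he2⟩, Subtype.ext ?_⟩
      rw [coe_mul, coe_mul, coe_inv, coe_mul, coe_mul, coe_inv, ← he, ← hlt]
      show ρ _ = ρ l * ρ _ * (ρ l)⁻¹
      rw [← map_inv, ← map_mul, ← map_mul]
      exact congrArg ρ (Subtype.ext rfl)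
    refine congrArg Subtype.val (kills φ' fun hne => ?_)
    exact isQuasisimple_congr (Subgroup.equivMapOfInjective _ _ φ'.range.subtype_injective).symm
      (hBp a haord _ ((isPComponent_map_subtype_iff hsub _).2 (himg φ' hne)))
  · -- every element of `L` is, modulo `C(L)`, centralized by `x`
    have hR : φ.range = Lb := by
      refine le_antisymm hφL ?_
      rintro _ ⟨⟨l, hlH⟩, hl, rfl⟩
      have hlL : l ∈ L := mem_subgroupOf.1 hl
      obtain ⟨e, he, hex, hec⟩ : ∃ e ∈ ep p X, Commute e x ∧ l⁻¹ * e ∈ centralizer (L : Set X) := by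
        by_cases hm : x ∈ normalizer (L : Set X)
        · refine ⟨l, hLE hlL, ?_, by rw [inv_mul_cancel]; exact one_mem _⟩
          exact mem_centralizer_iff.1 (not_not.1 fun h => hcase ⟨hm, h⟩) l hlL
        · exact exists_fixed_of_moved hL hx hm hLE hlL
      refine ⟨⟨e, Subgroup.mem_inf.2 ⟨he, mem_centralizer_singleton_iff.2 hex.eq⟩⟩, ?_⟩
      exact (QuotientGroup.eq.2 (mem_subgroupOf.2 hec)).symm
    refine kills φ fun hne => ?_
    have hrq : Cfsg.IsQuasisimple φ.range := by rw [hR]; exact hLbq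
    have hpc := himg φ hne
    rcases subnormal_eq_top_or_le_center hrq hpc.1 with h | h
    · rw [h]; exact isQuasisimple_congr Subgroup.topEquiv.symm hrq
    · refine absurd ?_ hne
      rw [← commutator_self_pComponent hpc, commutator_eq_bot_iff_le_centralizer]
      exact h.trans (center_le_centralizer _)

end CfsgLib.Invol.BLayer
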